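/-
Quadratic forms over the field with two elements polarising to the standard alternating form:
translation by a transvection, Gauss sums, totally singular subspaces.
-/
import Mathlib
import Cfsg.Prelude.Def_Classical

set_option autoImplicit false

namespace Cfsg.Agent.QFormF2

variable {m : ℕ}

local notation "𝔽₂" => ZMod 2

/-- `(-1)^a`. -/
def sgn (a : 𝔽₂) : ℤ := if a = 0 then 1 else -1

theorem sgn_add (a b : 𝔽₂) : sgn (a + b) = sgn a * sgn b := by
  revert a b; decide

theorem sgn_zero : sgn 0 = 1 := rfl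

theorem sgn_inj {a b : 𝔽₂} (h : sgn a = sgn b) : a = b := by
  revert a b; decide

theorem sgn_sum {ι : Type*} (s : Finset ι) (g : ι → 𝔽₂) : sgn (∑ i ∈ s, g i) = ∏ i ∈ s, sgn (g i) := by
  classical
  induction s using Finset.induction_on with
  | empty => rfl
  | insert a s ha ih => rw [Finset.sum_insert ha, Finset.prod_insert ha, sgn_add, ih]

theorem add_self_f2 (a : 𝔽₂) : a + a = 0 := by revert a; decide

theorem sub_eq_add_f2 (a b : 𝔽₂) : a - b = a + b := by revert a b; decide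

theorem eq_zero_or_one (a : 𝔽₂) : a = 0 ∨ a = 1 := by revert a; decide

/-- The standard alternating form, as the polar form of `quadFormPlus`. -/
def alt (u v : Fin m ⊕ Fin m → 𝔽₂) : 𝔽₂ :=
  quadFormPlus m 𝔽₂ (u + v) - quadFormPlus m 𝔽₂ u - quadFormPlus m 𝔽₂ v

theorem alt_eq (u v : Fin m ⊕ Fin m → 𝔽₂) :
    alt u v = ∑ i, (u (.inl i) * v (.inr i) + u (.inr i) * v (.inl i)) := by
  simp only [alt, quadFormPlus, Pi.add_apply, ← Finset.sum_sub_distrib]
  exact Finset.sum_congr rfl fun i _ => by ring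

theorem alt_comm (u v : Fin m ⊕ Fin m → 𝔽₂) : alt u v = alt v u := by
  simp only [alt, add_comm u v]; ring

theorem alt_add_left (u v w : Fin m ⊕ Fin m → 𝔽₂) : alt (u + v) w = alt u w + alt v w := by
  simp only [alt_eq, Pi.add_apply, ← Finset.sum_add_distrib]
  exact Finset.sum_congr rfl fun i _ => by ring

theorem alt_add_right (u v w : Fin m ⊕ Fin m → 𝔽₂) : alt u (v + w) = alt u v + alt u w := by
  rw [alt_comm, alt_add_left, alt_comm v, alt_comm w]

theorem alt_self (u : Fin m ⊕ Fin m → 𝔽₂) : alt u u = 0 := by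
  rw [alt_eq]; exact Finset.sum_eq_zero fun i _ => by rw [mul_comm (u (.inr i))]; exact add_self_f2 _

theorem alt_smul_left (a : 𝔽₂) (u v : Fin m ⊕ Fin m → 𝔽₂) : alt (a • u) v = a * alt u v := by
  simp only [alt_eq, Pi.smul_apply, smul_eq_mul, Finset.mul_sum]
  exact Finset.sum_congr rfl fun i _ => by ring

theorem alt_single_inl (i : Fin m) (v : Fin m ⊕ Fin m → 𝔽₂) :
    alt (Pi.single (Sum.inl i) 1) v = v (.inr i) := by
  simp [alt_eq, Pi.single_apply]

theorem alt_single_inr (i : Fin m) (v : Fin m ⊕ Fin m → 𝔽₂) :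
    alt (Pi.single (Sum.inr i) 1) v = v (.inl i) := by
  simp [alt_eq, Pi.single_apply]

theorem quadFormPlus_zero : quadFormPlus m 𝔽₂ 0 = 0 := by simp [quadFormPlus]

/-- `q` polarises to the standard alternating form. -/
def Polarizes (q : (Fin m ⊕ Fin m → 𝔽₂) → 𝔽₂) : Prop := ∀ u v, q (u + v) = q u + q v + alt u v

/-- The form `quadFormPlus + alt(·, w)`. -/
def formOf (w v : Fin m ⊕ Fin m → 𝔽₂) : 𝔽₂ := quadFormPlus m 𝔽₂ v + alt v w

theorem quadFormPlus_add (u v : Fin m ⊕ Fin m → 𝔽₂) :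
    quadFormPlus m 𝔽₂ (u + v) = quadFormPlus m 𝔽₂ u + quadFormPlus m 𝔽₂ v + alt u v := by
  simp only [alt]; ring

theorem polarizes_formOf (w : Fin m ⊕ Fin m → 𝔽₂) : Polarizes (formOf w) := fun u v => by
  simp only [formOf, quadFormPlus_add, alt_add_left]; ring

theorem formOf_injective : Function.Injective (formOf (m := m)) := by
  intro w z h
  funext i
  rcases i with i | i
  · have := congrFun h (Pi.single (Sum.inr i) 1)
    simpa [formOf, alt_single_inr] using this
  · have := congrFun h (Pi.single (Sum.inl i) 1)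
    simpa [formOf, alt_single_inl] using this

theorem exists_formOf {q : (Fin m ⊕ Fin m → 𝔽₂) → 𝔽₂} (hq : Polarizes q) : ∃ w, q = formOf w := by
  classical
  let l : (Fin m ⊕ Fin m → 𝔽₂) →+ 𝔽₂ := AddMonoidHom.mk' (fun v => q v - quadFormPlus m 𝔽₂ v)
    (fun u v => by simp only [hq u v, quadFormPlus_add]; ring)
  let L : (Fin m ⊕ Fin m → 𝔽₂) →ₗ[𝔽₂] 𝔽₂ := l.toZModLinearMap 2
  let w : Fin m ⊕ Fin m → 𝔽₂ :=
    Sum.elim (fun i => L (Pi.single (.inr i) 1)) (fun i => L (Pi.single (.inl i) 1))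
  refine ⟨w, funext fun v => ?_⟩
  let A : (Fin m ⊕ Fin m → 𝔽₂) →ₗ[𝔽₂] 𝔽₂ :=
    { toFun := fun v => alt v w
      map_add' := fun u v => alt_add_left u v w
      map_smul' := fun a u => by simp [alt_smul_left] }
  have : L = A := by
    apply (Pi.basisFun 𝔽₂ (Fin m ⊕ Fin m)).ext
    rintro (i | i)
    · simp [A, w, alt_single_inl]
    · simp [A, w, alt_single_inr]
  have := LinearMap.congr_fun this v
  simp only [L, A, l, AddMonoidHom.coe_toZModLinearMap, AddMonoidHom.mk'_apply, LinearMap.coe_mk,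
    AddHom.coe_mk] at this
  rw [formOf, ← this]; ring

/-- The transvection `v ↦ v + alt(v, w) w`. -/
def transv (w : Fin m ⊕ Fin m → 𝔽₂) : (Fin m ⊕ Fin m → 𝔽₂) ≃ₗ[𝔽₂] (Fin m ⊕ Fin m → 𝔽₂) :=
  have hinv : ∀ v, v + alt v w • w + alt (v + alt v w • w) w • w = v := fun v => by
    rw [alt_add_left, alt_smul_left, alt_self, mul_zero, add_zero, add_assoc, ← add_smul,
      add_self_f2, zero_smul, add_zero]
  { toFun := fun v => v + alt v w • w
    map_add' := fun u v => by rw [alt_add_left, add_smul]; abel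
    map_smul' := fun a u => by simp [alt_smul_left, smul_add, smul_smul]
    invFun := fun v => v + alt v w • w
    left_inv := hinv
    right_inv := hinv }

theorem comp_transv {q : (Fin m ⊕ Fin m → 𝔽₂) → 𝔽₂} (hq : Polarizes q) (w : Fin m ⊕ Fin m → 𝔽₂)
    (hw : q w = 0) (v : Fin m ⊕ Fin m → 𝔽₂) : q (transv w v) = q v + alt v w := by
  show q (v + alt v w • w) = _
  rcases eq_zero_or_one (alt v w) with h | h
  · simp [h]
  · rw [h, one_smul, hq, hw, h]; ring

/-- The Gauss sum of a function into the field with two elements. -/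
def gauss {V : Type*} [Fintype V] (q : V → 𝔽₂) : ℤ := ∑ v, sgn (q v)

theorem gauss_comp {V W : Type*} [Fintype V] [Fintype W] (e : V ≃ W) (q : W → 𝔽₂) :
    gauss (fun v => q (e v)) = gauss q :=
  Equiv.sum_comp e (fun v => sgn (q v))

theorem gauss_plus (m : ℕ) : gauss (quadFormPlus m 𝔽₂) = 2 ^ m := by
  classical
  let e : (Fin m ⊕ Fin m → 𝔽₂) ≃ (Fin m → 𝔽₂ × 𝔽₂) :=
    (Equiv.sumArrowEquivProdArrow _ _ _).trans (Equiv.arrowProdEquivProdArrow _ _ _).symm
  rw [gauss, ← Equiv.sum_comp e.symm]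
  have h2 : (∑ p : 𝔽₂ × 𝔽₂, sgn (p.1 * p.2)) = 2 := by decide
  have := Fintype.prod_sum (fun (_ : Fin m) (p : 𝔽₂ × 𝔽₂) => sgn (p.1 * p.2))
  rw [h2, Finset.prod_const, Finset.card_univ, Fintype.card_fin] at this
  rw [this]
  refine Finset.sum_congr rfl fun g _ => ?_
  rw [quadFormPlus, sgn_sum]
  rfl

theorem formOf_eq (w v : Fin m ⊕ Fin m → 𝔽₂) :
    formOf w v = quadFormPlus m 𝔽₂ (v + w) + quadFormPlus m 𝔽₂ w := by
  rw [quadFormPlus_add, formOf]
  linear_combination (-1 : 𝔽₂) * add_self_f2 (quadFormPlus m 𝔽₂ w)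

theorem gauss_formOf (w : Fin m ⊕ Fin m → 𝔽₂) :
    gauss (formOf w) = sgn (quadFormPlus m 𝔽₂ w) * 2 ^ m := by
  rw [← gauss_plus m, gauss, gauss, Finset.mul_sum]
  rw [← Equiv.sum_comp (Equiv.addRight w) (fun v => sgn (quadFormPlus m 𝔽₂ w) * sgn (quadFormPlus m 𝔽₂ v))]
  refine Finset.sum_congr rfl fun v _ => ?_
  rw [formOf_eq, sgn_add, mul_comm]; rfl

theorem exists_equiv_formOf_iff (w z : Fin m ⊕ Fin m → 𝔽₂) :
    (∃ g : (Fin m ⊕ Fin m → 𝔽₂) ≃ₗ[𝔽₂] (Fin m ⊕ Fin m → 𝔽₂), ∀ v, formOf w v = formOf z (g v)) ↔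
      quadFormPlus m 𝔽₂ w = quadFormPlus m 𝔽₂ z := by
  constructor
  · rintro ⟨g, hg⟩
    have : gauss (formOf w) = gauss (formOf z) := by
      rw [← gauss_comp g.toEquiv (formOf z)]
      exact congrArg gauss (funext hg)
    rw [gauss_formOf, gauss_formOf] at this
    exact sgn_inj (mul_right_cancel₀ (by positivity) this)
  · intro h
    refine ⟨transv (z + w), fun v => ?_⟩
    rw [comp_transv (polarizes_formOf z) (z + w)]
    · simp only [formOf, alt_add_right]
      linear_combination (-1 : 𝔽₂) * add_self_f2 (alt v z)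
    · rw [formOf, quadFormPlus_add, alt_add_left, alt_self, alt_comm w z, h]
      linear_combination add_self_f2 (quadFormPlus m 𝔽₂ z) + add_self_f2 (alt z w)

theorem card_plus_zero (m : ℕ) :
    2 * (Nat.card {w : Fin m ⊕ Fin m → 𝔽₂ // quadFormPlus m 𝔽₂ w = 0} : ℤ) = 2 ^ (2 * m) + 2 ^ m := by
  classical
  have h := gauss_plus m
  have hV : Fintype.card (Fin m ⊕ Fin m → 𝔽₂) = 2 ^ (2 * m) := by simp [two_mul]
  have hsum : ∑ v : Fin m ⊕ Fin m → 𝔽₂, ((2 : ℤ) * (if quadFormPlus m 𝔽₂ v = 0 then 1 else 0) - 1) = 2 ^ m := by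
    rw [← h, gauss]
    refine Finset.sum_congr rfl fun v _ => ?_
    rw [sgn]; split <;> rfl
  rw [Finset.sum_sub_distrib, ← Finset.mul_sum, Finset.sum_boole, Finset.sum_const, Finset.card_univ, hV] at hsum
  rw [Nat.card_eq_fintype_card, Fintype.card_subtype]
  simp at hsum ⊢
  linarith

theorem card_plus_one (m : ℕ) :
    2 * (Nat.card {w : Fin m ⊕ Fin m → 𝔽₂ // quadFormPlus m 𝔽₂ w = 1} : ℤ) = 2 ^ (2 * m) - 2 ^ m := by
  classical
  have h0 := card_plus_zero m
  have h : Nat.card {w : Fin m ⊕ Fin m → 𝔽₂ // quadFormPlus m 𝔽₂ w = 0} +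
      Nat.card {w : Fin m ⊕ Fin m → 𝔽₂ // quadFormPlus m 𝔽₂ w = 1} = 2 ^ (2 * m) := by
    rw [Nat.card_eq_fintype_card, Nat.card_eq_fintype_card, Fintype.card_subtype, Fintype.card_subtype,
      ← Finset.card_union_of_disjoint]
    · rw [show (2 : ℕ) ^ (2 * m) = (Finset.univ : Finset (Fin m ⊕ Fin m → 𝔽₂)).card by simp [two_mul]]
      congr 1
      ext v
      simp [eq_zero_or_one]
    · rw [Finset.disjoint_filter]
      intro v _ h1 h2
      rw [h1] at h2
      exact absurd h2 (by decide)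
  have h' : (Nat.card {w : Fin m ⊕ Fin m → 𝔽₂ // quadFormPlus m 𝔽₂ w = 0} : ℤ) +
      Nat.card {w : Fin m ⊕ Fin m → 𝔽₂ // quadFormPlus m 𝔽₂ w = 1} = 2 ^ (2 * m) := by exact_mod_cast h
  linarith

/-- The vector with value one in the last hyperbolic pair, zero elsewhere. -/
def lastPair (k : ℕ) : Fin (k + 1) ⊕ Fin (k + 1) → 𝔽₂ :=
  Sum.elim (Pi.single (Fin.last k) 1) (Pi.single (Fin.last k) 1)

theorem quadFormPlus_lastPair (k : ℕ) : quadFormPlus (k + 1) 𝔽₂ (lastPair k) = 1 := by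
  simp [quadFormPlus, lastPair, Pi.single_apply]

/-- Split off the last hyperbolic pair. -/
def splitLast (k : ℕ) :
    (Fin (k + 1) ⊕ Fin (k + 1) → 𝔽₂) ≃ₗ[𝔽₂] ((Fin k ⊕ Fin k) ⊕ Fin 2 → 𝔽₂) where
  toFun v := Sum.elim (Sum.elim (fun i => v (.inl i.castSucc)) (fun i => v (.inr i.castSucc)))
    ![v (.inl (Fin.last k)), v (.inr (Fin.last k))]
  invFun u := Sum.elim (Fin.snoc (fun i => u (.inl (.inl i))) (u (.inr 0)))
    (Fin.snoc (fun i => u (.inl (.inr i))) (u (.inr 1)))
  map_add' u v := by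
    funext i; rcases i with (i | i) | i
    · rfl
    · rfl
    · fin_cases i <;> rfl
  map_smul' a v := by
    funext i; rcases i with (i | i) | i
    · rfl
    · rfl
    · fin_cases i <;> rfl
  left_inv v := by
    funext i; rcases i with i | i <;> refine Fin.lastCases ?_ (fun j => ?_) i <;> simp
  right_inv u := by
    funext i; rcases i with (i | i) | i
    · simp
    · simp
    · fin_cases i <;> simp

theorem minus_splitLast (k : ℕ) (v : Fin (k + 1) ⊕ Fin (k + 1) → 𝔽₂) :
    quadFormMinus k 𝔽₂ 1 1 (splitLast k v) = formOf (lastPair k) v := by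
  have h : ∀ a b : 𝔽₂, a ^ 2 + 1 * a * b + 1 * b ^ 2 = a * b + (a + b) := by decide
  simp only [quadFormMinus, splitLast, LinearEquiv.coe_mk, LinearMap.coe_mk, AddHom.coe_mk, Sum.elim_inl,
    Sum.elim_inr, Matrix.cons_val_zero, Matrix.cons_val_one, h, formOf, alt_eq, quadFormPlus,
    Fin.sum_univ_castSucc, lastPair]
  simp
  ring

/-- Fourier orthogonality for the alternating form. -/
theorem sum_sgn_alt (u : Fin m ⊕ Fin m → 𝔽₂) :
    ∑ v, sgn (alt u v) = if u = 0 then 2 ^ (2 * m) else 0 := by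
  classical
  split_ifs with hu
  · subst hu
    simp [alt_eq, sgn_zero, two_mul]
  · obtain ⟨i, hi⟩ := Function.ne_iff.1 hu
    obtain ⟨z, hz⟩ : ∃ z, alt u z = 1 := by
      rcases i with i | i
      · exact ⟨Pi.single (.inr i) 1, by
          rw [alt_comm, alt_single_inr]; exact (eq_zero_or_one _).resolve_left hi⟩
      · exact ⟨Pi.single (.inl i) 1, by
          rw [alt_comm, alt_single_inl]; exact (eq_zero_or_one _).resolve_left hi⟩
    have h := (Equiv.sum_comp (Equiv.addRight z) (fun v => sgn (alt u v))).symm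
    simp only [Equiv.coe_addRight, alt_add_right, hz, sgn_add] at h
    rw [show sgn 1 = -1 from rfl, ← Finset.sum_mul] at h
    linarith

open Classical in
theorem singular_bounds (w : Fin m ⊕ Fin m → 𝔽₂) (U : Submodule 𝔽₂ (Fin m ⊕ Fin m → 𝔽₂))
    (hU : ∀ u ∈ U, formOf w u = 0) :
    Module.finrank 𝔽₂ U ≤ m ∧ (Module.finrank 𝔽₂ U = m → quadFormPlus m 𝔽₂ w = 0) := by
  let S : Finset (Fin m ⊕ Fin m → 𝔽₂) := Finset.univ.filter (fun u => u ∈ U)
  let P : Finset (Fin m ⊕ Fin m → 𝔽₂) := Finset.univ.filter (fun v => ∀ u ∈ U, alt u v = 0)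
  have hSP : S ⊆ P := by
    intro v hv
    simp only [S, P, Finset.mem_filter, Finset.mem_univ, true_and] at hv ⊢
    intro u hu
    have := polarizes_formOf w u v
    rw [hU u hu, hU v hv, hU _ (U.add_mem hu hv), zero_add, zero_add] at this
    exact this.symm
  have hS : S.card = 2 ^ Module.finrank 𝔽₂ U := by
    rw [← Fintype.card_subtype, ← Nat.card_eq_fintype_card]
    have := Module.natCard_eq_pow_finrank (K := 𝔽₂) (V := U)
    simpa using this
  have hsum : ∀ v, ∑ u ∈ S, sgn (alt u v) = if v ∈ P then (S.card : ℤ) else 0 := by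
    intro v
    split_ifs with hv
    · rw [Finset.sum_congr rfl fun u hu => by
        rw [(Finset.mem_filter.1 hv).2 u (Finset.mem_filter.1 hu).2, sgn_zero]]
      simp
    · simp only [P, Finset.mem_filter, Finset.mem_univ, true_and, not_forall] at hv
      obtain ⟨z, hz, hz'⟩ := hv
      have hz1 : alt z v = 1 := (eq_zero_or_one _).resolve_left hz'
      have h : ∑ u ∈ S, sgn (alt u v) = ∑ u ∈ S, sgn (alt (u + z) v) := by
        refine Finset.sum_equiv (Equiv.addRight z).symm (fun u => ?_) (fun u _ => ?_)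
        · simp only [S, Finset.mem_filter, Finset.mem_univ, true_and, Equiv.addRight_symm, Equiv.coe_addRight]
          exact ⟨fun h => U.add_mem h (U.neg_mem hz), fun h => by simpa using U.add_mem h hz⟩
        · simp
      simp only [alt_add_left, hz1, sgn_add, show sgn 1 = -1 from rfl, ← Finset.sum_mul] at h
      linarith
  have hPS : S.card * P.card = 2 ^ (2 * m) := by
    have h1 : ∑ v, ∑ u ∈ S, sgn (alt u v) = (2 : ℤ) ^ (2 * m) := by
      rw [Finset.sum_comm]
      simp only [sum_sgn_alt]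
      rw [Finset.sum_ite_eq']
      simp [S]
    simp only [hsum, Finset.sum_ite_mem, Finset.univ_inter, Finset.sum_const, nsmul_eq_mul] at h1
    rw [mul_comm]
    exact_mod_cast h1
  have hle : Module.finrank 𝔽₂ U ≤ m := by
    have h1 : 2 ^ (Module.finrank 𝔽₂ U + Module.finrank 𝔽₂ U) ≤ 2 ^ (2 * m) := by
      rw [← hPS, pow_add, ← hS]
      exact Nat.mul_le_mul_left _ (Finset.card_le_card hSP)
    have := (Nat.pow_le_pow_iff_right (le_refl 2)).1 h1
    omega
  refine ⟨hle, fun hd => ?_⟩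
  rw [hd] at hS
  have hP : P.card = S.card := by
    have : 2 ^ m * P.card = 2 ^ m * 2 ^ m := by rw [← hS, hPS, hS, ← pow_add, two_mul]
    rw [hS]; exact Nat.eq_of_mul_eq_mul_left (by positivity) this
  have hPeq : S = P := Finset.eq_of_subset_of_card_le hSP hP.le
  -- sum over translates by `U`
  have h1 : ∑ v, ∑ u ∈ S, sgn (formOf w (v + u)) = (S.card : ℤ) * gauss (formOf w) := by
    rw [Finset.sum_comm]
    have : ∀ u, ∑ v, sgn (formOf w (v + u)) = gauss (formOf w) := fun u =>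
      gauss_comp (Equiv.addRight u) (formOf w)
    simp [this]
  have h2 : ∀ v, ∑ u ∈ S, sgn (formOf w (v + u)) = if v ∈ S then (S.card : ℤ) else 0 := by
    intro v
    have : ∀ u ∈ S, sgn (formOf w (v + u)) = sgn (formOf w v) * sgn (alt u v) := by
      intro u hu
      rw [polarizes_formOf w v u, hU u (Finset.mem_filter.1 hu).2, add_zero, sgn_add, alt_comm]
    rw [Finset.sum_congr rfl this, ← Finset.mul_sum, hsum, ← hPeq]
    split_ifs with hv
    · rw [hU v (Finset.mem_filter.1 hv).2, sgn_zero, one_mul]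
    · rw [mul_zero]
  simp only [h2, Finset.sum_ite_mem, Finset.univ_inter, Finset.sum_const, nsmul_eq_mul] at h1
  rw [gauss_formOf, hS] at h1
  rcases eq_zero_or_one (quadFormPlus m 𝔽₂ w) with h | h
  · exact h
  · rw [h, show sgn 1 = -1 from rfl] at h1
    push_cast at h1
    have : (0 : ℤ) < 2 ^ m := by positivity
    nlinarith

end Cfsg.Agent.QFormF2
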