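/-
A quadratic form over the field with two elements with nondegenerate polar form is equivalent to a `formOf w`,
and its type is given by its Gauss sum.
-/
import Mathlib
import Cfsg.Agent.Lib.QFormF2.Gauss
import Cfsg.Agent.Lib.Forms.Classify

set_option autoImplicit false

namespace Cfsg.Agent.QFormF2

open Module

variable {V : Type*} [AddCommGroup V] [Module (ZMod 2) V] [FiniteDimensional (ZMod 2) V] {m : ℕ}

theorem exists_coords (q : V → ZMod 2) (b : LinearMap.BilinForm (ZMod 2) V)
    (hq : ∀ u v, q (u + v) = q u + q v + b u v) (hb : b.Nondegenerate) (hd : finrank (ZMod 2) V = 2 * m) :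
    ∃ (e : V ≃ₗ[ZMod 2] (Fin m ⊕ Fin m → ZMod 2)) (w : Fin m ⊕ Fin m → ZMod 2), ∀ v, q v = formOf w (e v) := by
  have h0 : q 0 = 0 := by
    have := hq 0 0
    simpa using this
  have hA : b.IsAlt := fun x => by
    have h2 : x + x = 0 := by rw [← two_smul (ZMod 2) x, show (2 : ZMod 2) = 0 from rfl, zero_smul]
    have := hq x x
    rw [h2, h0, add_self_f2, zero_add] at this
    exact this.symm
  obtain ⟨m', k, e, he⟩ := Forms.exists_alt_coords b hA
  have hk : k = 0 := by
    rcases Nat.eq_zero_or_pos k with hk | hk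
    · exact hk
    exfalso
    let z : V := e.symm (Pi.single (Sum.inr ⟨0, hk⟩) 1)
    have hz : z = 0 := hb.1 z fun y => by
      rw [he]
      simp [z, Forms.sympForm_eq_sum]
    have := congrArg e hz
    rw [LinearEquiv.apply_symm_apply, map_zero] at this
    simpa using congrFun this (Sum.inr ⟨0, hk⟩)
  subst hk
  have hm : m' = m := by
    have := e.finrank_eq
    rw [hd, finrank_fintype_fun_eq_card] at this
    simp at this
    omega
  subst hm
  let c : ((Fin m' ⊕ Fin m') ⊕ Fin 0 → ZMod 2) ≃ₗ[ZMod 2] (Fin m' ⊕ Fin m' → ZMod 2) :=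
    LinearEquiv.funCongrLeft (ZMod 2) (ZMod 2) (Equiv.sumEmpty (Fin m' ⊕ Fin m') (Fin 0)).symm
  let E := e.trans c
  have hE : ∀ u v, b u v = alt (E u) (E v) := fun u v => by
    rw [he, Forms.sympForm_eq_sum, alt_eq]
    refine Finset.sum_congr rfl fun i _ => ?_
    simp only [E, c, LinearEquiv.trans_apply, LinearEquiv.funCongrLeft_apply, LinearMap.funLeft_apply,
      Equiv.sumEmpty_symm_apply]
    rw [sub_eq_add_f2]
    ring
  have hpol : Polarizes (fun y => q (E.symm y)) := fun u v => by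
    show q (E.symm (u + v)) = _
    rw [map_add, hq, hE, LinearEquiv.apply_symm_apply, LinearEquiv.apply_symm_apply]
  obtain ⟨w, hw⟩ := exists_formOf hpol
  exact ⟨E, w, fun v => by rw [← hw]; simp⟩

theorem equiv_plus_of_gauss [Fintype V] (q : V → ZMod 2) (b : LinearMap.BilinForm (ZMod 2) V)
    (hq : ∀ u v, q (u + v) = q u + q v + b u v) (hb : b.Nondegenerate) (hd : finrank (ZMod 2) V = 2 * m)
    (hg : gauss q = 2 ^ m) :
    ∃ e : V ≃ₗ[ZMod 2] (Fin m ⊕ Fin m → ZMod 2), ∀ v, q v = quadFormPlus m (ZMod 2) (e v) := by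
  obtain ⟨e, w, he⟩ := exists_coords q b hq hb hd
  have h1 : gauss q = gauss (formOf w) := by
    rw [← gauss_comp e.toEquiv (formOf w)]
    exact congrArg gauss (funext he)
  rw [hg, gauss_formOf] at h1
  have h2 : quadFormPlus m (ZMod 2) w = 0 := by
    rcases eq_zero_or_one (quadFormPlus m (ZMod 2) w) with h | h
    · exact h
    · rw [h, show sgn 1 = -1 from rfl] at h1
      have : (0 : ℤ) < 2 ^ m := by positivity
      linarith
  obtain ⟨g, hgv⟩ := (exists_equiv_formOf_iff w 0).2 (h2.trans quadFormPlus_zero.symm)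
  refine ⟨e.trans g, fun v => ?_⟩
  rw [he, hgv, formOf, alt_eq]
  simp

theorem equiv_minus_of_gauss {k : ℕ} [Fintype V] (q : V → ZMod 2) (b : LinearMap.BilinForm (ZMod 2) V)
    (hq : ∀ u v, q (u + v) = q u + q v + b u v) (hb : b.Nondegenerate) (hd : finrank (ZMod 2) V = 2 * (k + 1))
    (hg : gauss q = -2 ^ (k + 1)) :
    ∃ e : V ≃ₗ[ZMod 2] ((Fin k ⊕ Fin k) ⊕ Fin 2 → ZMod 2), ∀ v, q v = quadFormMinus k (ZMod 2) 1 1 (e v) := by
  obtain ⟨e, w, he⟩ := exists_coords q b hq hb hd
  have h1 : gauss q = gauss (formOf w) := by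
    rw [← gauss_comp e.toEquiv (formOf w)]
    exact congrArg gauss (funext he)
  rw [hg, gauss_formOf] at h1
  have h2 : quadFormPlus (k + 1) (ZMod 2) w = 1 := by
    rcases eq_zero_or_one (quadFormPlus (k + 1) (ZMod 2) w) with h | h
    · rw [h, show sgn 0 = 1 from rfl] at h1
      have : (0 : ℤ) < 2 ^ (k + 1) := by positivity
      linarith
    · exact h
  obtain ⟨g, hgv⟩ := (exists_equiv_formOf_iff w (lastPair k)).2 (h2.trans (quadFormPlus_lastPair k).symm)
  refine ⟨(e.trans g).trans (splitLast k), fun v => ?_⟩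
  rw [he, hgv, ← minus_splitLast]
  rfl

end Cfsg.Agent.QFormF2
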