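/-
The even subsets of a set of size `4k + 4` modulo complement, with half the size modulo 2 as quadratic form.
-/
import Mathlib
import Cfsg.Agent.Lib.QFormF2.Classify
import Cfsg.Agent.Lib.Forms.Isom

set_option autoImplicit false

namespace Cfsg.Agent.QFormF2

open Module

variable (k : ℕ)

local notation "N" => 4 * k + 4
local notation "U" => (Fin (4 * k + 4) → ZMod 2)

/-- The coordinate sum. -/
def total : U →ₗ[ZMod 2] ZMod 2 where
  toFun v := ∑ i, v i
  map_add' u v := by simp [Finset.sum_add_distrib]
  map_smul' c v := by simp [Finset.mul_sum]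

/-- The constants among the even vectors. -/
def constLine : Submodule (ZMod 2) (LinearMap.ker (total k)) :=
  (Submodule.span (ZMod 2) {(fun _ => 1 : U)}).comap (LinearMap.ker (total k)).subtype

/-- Even subsets modulo complement. -/
abbrev EvenQuot : Type := (LinearMap.ker (total k)) ⧸ constLine k

/-- Support size. -/
def weight (v : U) : ℕ := (Finset.univ.filter fun i => v i = 1).card

/-- Half the weight, modulo two. -/
def halfWeight (v : U) : ZMod 2 := ((weight k v / 2 : ℕ) : ZMod 2)

theorem cast_weight (v : U) : (weight k v : ZMod 2) = ∑ i, v i := by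
  rw [weight, Finset.natCast_card_filter]
  refine Finset.sum_congr rfl fun i _ => ?_
  rcases eq_zero_or_one (v i) with h | h <;> simp [h]

theorem even_weight {v : U} (hv : v ∈ LinearMap.ker (total k)) : Even (weight k v) := by
  rw [← ZMod.natCast_eq_zero_iff_even, cast_weight]
  exact hv

/-- The dot product. -/
def dotForm : LinearMap.BilinForm (ZMod 2) U :=
  LinearMap.mk₂ (ZMod 2) (fun u v => ∑ i, u i * v i)
    (fun u u' v => by simp [add_mul, Finset.sum_add_distrib])
    (fun c u v => by simp [Finset.mul_sum, mul_assoc])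
    (fun u v v' => by simp [mul_add, Finset.sum_add_distrib])
    (fun c u v => by simp [Finset.mul_sum, mul_left_comm])

theorem halfWeight_add {u v : U} (hu : u ∈ LinearMap.ker (total k)) (hv : v ∈ LinearMap.ker (total k)) :
    halfWeight k (u + v) = halfWeight k u + halfWeight k v + dotForm k u v := by
  have h : weight k (u + v) + 2 * (Finset.univ.filter fun i => u i = 1 ∧ v i = 1).card = weight k u + weight k v := by
    simp only [weight, Finset.card_filter, Finset.mul_sum, ← Finset.sum_add_distrib]
    refine Finset.sum_congr rfl fun i _ => ?_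
    rcases eq_zero_or_one (u i) with h1 | h1 <;> rcases eq_zero_or_one (v i) with h2 | h2 <;>
      simp [Pi.add_apply, h1, h2, add_self_f2]
  have hd : dotForm k u v = ((Finset.univ.filter fun i => u i = 1 ∧ v i = 1).card : ZMod 2) := by
    simp only [dotForm, LinearMap.mk₂_apply]
    rw [Finset.natCast_card_filter]
    refine Finset.sum_congr rfl fun i _ => ?_
    rcases eq_zero_or_one (u i) with h1 | h1 <;> rcases eq_zero_or_one (v i) with h2 | h2 <;> simp [h1, h2]
  obtain ⟨a, ha⟩ := even_weight k hu
  obtain ⟨b, hb⟩ := even_weight k hv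
  obtain ⟨c, hc⟩ := even_weight k ((LinearMap.ker (total k)).add_mem hu hv)
  rw [hd, halfWeight, halfWeight, halfWeight, show weight k u / 2 = a by omega,
    show weight k v / 2 = b by omega, show weight k (u + v) / 2 = c by omega]
  have he : a + b = c + (Finset.univ.filter fun i => u i = 1 ∧ v i = 1).card := by omega
  have he' := congrArg (Nat.cast : ℕ → ZMod 2) he
  push_cast at he'
  linear_combination (-1 : ZMod 2) * he' - add_self_f2 ((Finset.univ.filter fun i => u i = 1 ∧ v i = 1).card : ZMod 2)

theorem const_mem_ker : (fun _ => 1 : U) ∈ LinearMap.ker (total k) := by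
  simp [total, show (4 : ZMod 2) = 0 from rfl]

theorem halfWeight_const : halfWeight k (fun _ => 1) = 0 := by
  have : weight k (fun _ => 1) = 2 * (2 * (k + 1)) := by simp [weight]; ring
  rw [halfWeight, this, Nat.mul_div_cancel_left _ two_pos, Nat.cast_mul]
  simp [show (2 : ZMod 2) = 0 from rfl]

theorem dot_const {u : U} (hu : u ∈ LinearMap.ker (total k)) : dotForm k u (fun _ => 1) = 0 := by
  simp only [dotForm, LinearMap.mk₂_apply, mul_one]
  exact hu

theorem mem_constLine {x : LinearMap.ker (total k)} :
    x ∈ constLine k ↔ (x : U) = 0 ∨ (x : U) = fun _ => 1 := by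
  rw [constLine, Submodule.mem_comap, Submodule.mem_span_singleton]
  constructor
  · rintro ⟨c, hc⟩
    rcases eq_zero_or_one c with rfl | rfl
    · exact Or.inl (by rw [zero_smul] at hc; exact hc.symm)
    · exact Or.inr (by rw [one_smul] at hc; exact hc.symm)
  · rintro (h | h)
    · exact ⟨0, by rw [zero_smul]; exact h.symm⟩
    · exact ⟨1, by rw [one_smul]; exact h.symm⟩

theorem halfWeight_congr {x y : LinearMap.ker (total k)} (h : x - y ∈ constLine k) :
    halfWeight k x = halfWeight k y := by
  rcases (mem_constLine k).1 h with h | h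
  · rw [Submodule.coe_sub, sub_eq_zero] at h
    rw [h]
  · rw [Submodule.coe_sub, sub_eq_iff_eq_add] at h
    rw [h, halfWeight_add k (const_mem_ker k) y.2, halfWeight_const, zero_add,
      show dotForm k (fun _ => 1) (y : U) = 0 by
        simp only [dotForm, LinearMap.mk₂_apply, one_mul]; exact y.2, add_zero]

/-- The quadratic form on the quotient. -/
def qbar : EvenQuot k → ZMod 2 :=
  Quotient.lift (fun x : LinearMap.ker (total k) => halfWeight k x)
    (fun _ _ h => halfWeight_congr k ((Submodule.quotientRel_def _).1 h))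

theorem qbar_mk (x : LinearMap.ker (total k)) : qbar k (Submodule.Quotient.mk x) = halfWeight k x := rfl

/-- The polar function on the quotient. -/
def bfun (u v : EvenQuot k) : ZMod 2 := qbar k (u + v) - qbar k u - qbar k v

theorem bfun_mk (x y : LinearMap.ker (total k)) :
    bfun k (Submodule.Quotient.mk x) (Submodule.Quotient.mk y) = dotForm k x y := by
  rw [bfun, ← Submodule.Quotient.mk_add, qbar_mk, qbar_mk, qbar_mk, Submodule.coe_add, halfWeight_add k x.2 y.2]
  ring

/-- The form induced on the quotient. -/
noncomputable def bbar : LinearMap.BilinForm (ZMod 2) (EvenQuot k) :=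
  LinearMap.mk₂ (ZMod 2) (bfun k)
    (fun u u' v => by
      obtain ⟨x, rfl⟩ := Submodule.Quotient.mk_surjective _ u
      obtain ⟨x', rfl⟩ := Submodule.Quotient.mk_surjective _ u'
      obtain ⟨y, rfl⟩ := Submodule.Quotient.mk_surjective _ v
      rw [← Submodule.Quotient.mk_add, bfun_mk, bfun_mk, bfun_mk, Submodule.coe_add, map_add, LinearMap.add_apply])
    (fun c u v => by
      obtain ⟨x, rfl⟩ := Submodule.Quotient.mk_surjective _ u
      obtain ⟨y, rfl⟩ := Submodule.Quotient.mk_surjective _ v
      rw [← Submodule.Quotient.mk_smul, bfun_mk, bfun_mk, Submodule.coe_smul, map_smul, LinearMap.smul_apply])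
    (fun u v v' => by
      obtain ⟨x, rfl⟩ := Submodule.Quotient.mk_surjective _ u
      obtain ⟨y, rfl⟩ := Submodule.Quotient.mk_surjective _ v
      obtain ⟨y', rfl⟩ := Submodule.Quotient.mk_surjective _ v'
      rw [← Submodule.Quotient.mk_add, bfun_mk, bfun_mk, bfun_mk, Submodule.coe_add, map_add])
    (fun c u v => by
      obtain ⟨x, rfl⟩ := Submodule.Quotient.mk_surjective _ u
      obtain ⟨y, rfl⟩ := Submodule.Quotient.mk_surjective _ v
      rw [← Submodule.Quotient.mk_smul, bfun_mk, bfun_mk, Submodule.coe_smul, map_smul])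

theorem bbar_mk (x y : LinearMap.ker (total k)) :
    bbar k (Submodule.Quotient.mk x) (Submodule.Quotient.mk y) = dotForm k x y := bfun_mk k x y

theorem qbar_add (u v : EvenQuot k) : qbar k (u + v) = qbar k u + qbar k v + bbar k u v := by
  obtain ⟨x, rfl⟩ := Submodule.Quotient.mk_surjective _ u
  obtain ⟨y, rfl⟩ := Submodule.Quotient.mk_surjective _ v
  rw [← Submodule.Quotient.mk_add, qbar_mk, qbar_mk, qbar_mk, bbar_mk]
  exact halfWeight_add k x.2 y.2

/-- The vector with support `{i, j}`. -/
def pairVec (i j : Fin (4 * k + 4)) : U := Pi.single i 1 + Pi.single j 1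

theorem pairVec_mem (i j : Fin (4 * k + 4)) : pairVec k i j ∈ LinearMap.ker (total k) := by
  rw [LinearMap.mem_ker, pairVec, map_add]
  simp [total, add_self_f2]

theorem bbar_nondegenerate : (bbar k).Nondegenerate := by
  have hleft : ∀ u, (∀ v, bbar k u v = 0) → u = 0 := by
    intro u hu
    obtain ⟨x, rfl⟩ := Submodule.Quotient.mk_surjective _ u
    rw [Submodule.Quotient.mk_eq_zero, mem_constLine]
    have hconst : ∀ i, (x : U) i = (x : U) 0 := by
      intro i
      have h : dotForm k x (pairVec k i 0) = 0 :=
        (bbar_mk k x ⟨_, pairVec_mem k i 0⟩).symm.trans (hu _)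
      simp [dotForm, pairVec, mul_add, Finset.sum_add_distrib, Pi.single_apply] at h
      linear_combination h - add_self_f2 ((x : U) 0)
    rcases eq_zero_or_one ((x : U) 0) with h | h
    · exact Or.inl (funext fun i => (hconst i).trans h)
    · exact Or.inr (funext fun i => (hconst i).trans h)
  refine ⟨fun u hu => hleft u hu, fun u hu => hleft u fun v => ?_⟩
  obtain ⟨x, rfl⟩ := Submodule.Quotient.mk_surjective _ u
  obtain ⟨y, rfl⟩ := Submodule.Quotient.mk_surjective _ v
  have h := hu (Submodule.Quotient.mk y)
  rw [bbar_mk] at h ⊢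
  rw [← h]
  simp only [dotForm, LinearMap.mk₂_apply]
  exact Finset.sum_congr rfl fun i _ => mul_comm _ _

theorem finrank_evenQuot : finrank (ZMod 2) (EvenQuot k) = 2 * (2 * k + 1) := by
  have hsurj : Function.Surjective (total k) := fun c => ⟨Pi.single 0 c, by simp [total]⟩
  have h1 := (total k).finrank_range_add_finrank_ker
  rw [LinearMap.range_eq_top.2 hsurj, finrank_top, Module.finrank_self, finrank_fintype_fun_eq_card,
    Fintype.card_fin] at h1
  have hne : (fun _ => 1 : U) ≠ 0 := fun h => by simpa using congrFun h 0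
  have h2 : finrank (ZMod 2) (constLine k) = 1 := by
    rw [constLine, (Submodule.comapSubtypeEquivOfLe
      ((Submodule.span_singleton_le_iff_mem _ _).2 (const_mem_ker k))).finrank_eq]
    exact finrank_span_singleton hne
  have h3 := Submodule.finrank_quotient_add_finrank (constLine k)
  rw [h2] at h3
  show finrank (ZMod 2) ((LinearMap.ker (total k)) ⧸ constLine k) = _
  omega

theorem gauss_qbar [Fintype (EvenQuot k)] : gauss (qbar k) = (-1) ^ (k + 1) * 2 ^ (2 * k + 1) := by
  classical
  let i : GaussianInt := ⟨0, 1⟩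
  have hprod : ∀ v : U, ∏ j, (if v j = 0 then 1 else i) = i ^ weight k v := fun v => by
    rw [weight, ← Finset.prod_const, Finset.prod_filter]
    refine Finset.prod_congr rfl fun j _ => ?_
    rcases eq_zero_or_one (v j) with h | h <;> simp [h]
  have hsum : ∑ v : U, i ^ weight k v = ((-4 : ℤ) ^ (k + 1) : GaussianInt) := by
    simp only [← hprod]
    rw [← Fintype.prod_sum (fun (_ : Fin (4 * k + 4)) (a : ZMod 2) => if a = 0 then (1 : GaussianInt) else i),
      Finset.prod_const, Finset.card_univ, Fintype.card_fin, show 4 * k + 4 = 4 * (k + 1) by ring, pow_mul]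
    congr 1
  have hre : ∀ v : U, (i ^ weight k v).re = if v ∈ LinearMap.ker (total k) then sgn (halfWeight k v) else 0 := by
    intro v
    have hi : ∀ a : ℕ, i ^ (2 * a) = (((-1 : ℤ) ^ a : ℤ) : GaussianInt) := fun a => by
      rw [pow_mul, show i ^ 2 = ((-1 : ℤ) : GaussianInt) by decide, ← Int.cast_pow]
    split_ifs with hv
    · obtain ⟨a, ha⟩ := even_weight k hv
      rw [halfWeight, ha, ← two_mul, Nat.mul_div_cancel_left _ two_pos, hi, Zsqrtd.re_intCast]
      rcases Nat.even_or_odd a with h | h
      · rw [h.neg_one_pow, (ZMod.natCast_eq_zero_iff_even).2 h, sgn_zero]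
      · rw [h.neg_one_pow, (ZMod.natCast_eq_one_iff_odd).2 h]; rfl
    · have hodd : ¬ Even (weight k v) := fun h => hv (by
        rw [← ZMod.natCast_eq_zero_iff_even, cast_weight] at h
        exact h)
      obtain ⟨a, ha⟩ := Nat.not_even_iff_odd.1 hodd
      rw [ha, pow_succ, hi, Zsqrtd.re_mul, Zsqrtd.re_intCast, Zsqrtd.im_intCast]
      simp [i]
  let reHom : GaussianInt →+ ℤ := AddMonoidHom.mk' (fun z => z.re) (fun a b => rfl)
  have h1 : ∑ x : LinearMap.ker (total k), sgn (halfWeight k x) = (-4 : ℤ) ^ (k + 1) := by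
    have h := congrArg reHom hsum
    rw [map_sum] at h
    simp only [reHom, AddMonoidHom.mk'_apply, hre] at h
    rw [← Int.cast_pow, Zsqrtd.re_intCast] at h
    rw [← Finset.sum_filter] at h
    rw [← h]
    exact (Finset.sum_subtype _ (fun x => by simp) (fun x => sgn (halfWeight k x))).symm
  have h2 : ∑ x : LinearMap.ker (total k), sgn (halfWeight k x) = 2 * gauss (qbar k) := by
    rw [← Finset.sum_fiberwise (Finset.univ : Finset (LinearMap.ker (total k)))
      (fun x => (Submodule.Quotient.mk x : EvenQuot k)), gauss, Finset.mul_sum]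
    refine Finset.sum_congr rfl fun u _ => ?_
    have hc : ∀ x ∈ (Finset.univ : Finset (LinearMap.ker (total k))).filter
        (fun x => (Submodule.Quotient.mk x : EvenQuot k) = u), sgn (halfWeight k (x : U)) = sgn (qbar k u) := by
      intro x hx
      rw [← qbar_mk, (Finset.mem_filter.1 hx).2]
    rw [Finset.sum_congr rfl hc, Finset.sum_const, nsmul_eq_mul]
    congr 1
    have hcl : Nat.card (constLine k) = 2 := by
      have hne : (⟨fun _ => 1, const_mem_ker k⟩ : LinearMap.ker (total k)) ≠ 0 := fun h => by
        simpa using congrFun (congrArg Subtype.val h) 0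
      rw [Nat.card_eq_two_iff]
      refine ⟨0, ⟨⟨fun _ => 1, const_mem_ker k⟩, (mem_constLine k).2 (Or.inr rfl)⟩,
        fun h => hne (congrArg Subtype.val h).symm, ?_⟩
      refine Set.eq_univ_of_forall fun x => ?_
      rcases (mem_constLine k).1 x.2 with h | h
      · exact Or.inl (Subtype.ext (Subtype.ext h))
      · exact Or.inr (Subtype.ext (Subtype.ext h))
    obtain ⟨x, rfl⟩ := Submodule.Quotient.mk_surjective _ u
    rw [← Fintype.card_subtype, ← Nat.card_eq_fintype_card]
    refine (congrArg Nat.cast ((Nat.card_congr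
      { toFun := fun z => ⟨z.1 - x, (Submodule.Quotient.eq _).1 z.2⟩
        invFun := fun c => ⟨c.1 + x, (Submodule.Quotient.eq _).2 (by simp)⟩
        left_inv := fun z => Subtype.ext (sub_add_cancel _ _)
        right_inv := fun c => Subtype.ext (add_sub_cancel_right _ _) }).trans hcl)).trans Nat.cast_two
  rw [h1, show (-4 : ℤ) = -1 * 2 ^ 2 by norm_num, mul_pow, ← pow_mul,
    show 2 * (k + 1) = 2 * k + 1 + 1 by ring, pow_succ] at h2
  rw [show (2 * k + 1) = 2 * k + 1 from rfl]
  rw [pow_succ (-1 : ℤ)]
  rw [pow_succ (2 : ℤ)] at h2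
  linarith

/-- Permutation of coordinates on the even vectors. -/
def permKer (σ : Equiv.Perm (Fin (4 * k + 4))) : LinearMap.ker (total k) →ₗ[ZMod 2] LinearMap.ker (total k) :=
  LinearMap.codRestrict _ ((LinearMap.funLeft (ZMod 2) (ZMod 2) σ.symm).comp (LinearMap.ker (total k)).subtype)
    (fun x => by
      show ∑ i, (x : U) (σ.symm i) = 0
      rw [Equiv.sum_comp σ.symm (x : U)]
      exact x.2)

/-- Permutations on the quotient. -/
def permQuot (σ : Equiv.Perm (Fin (4 * k + 4))) : EvenQuot k →ₗ[ZMod 2] EvenQuot k :=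
  Submodule.mapQ _ _ (permKer k σ) (fun x hx => by
    rw [Submodule.mem_comap, mem_constLine]
    rcases (mem_constLine k).1 hx with h | h
    · exact Or.inl (funext fun i => congrFun h _)
    · exact Or.inr (funext fun i => congrFun h _))

theorem permQuot_mk (σ : Equiv.Perm (Fin (4 * k + 4))) (x : LinearMap.ker (total k)) :
    permQuot k σ (Submodule.Quotient.mk x) = Submodule.Quotient.mk (permKer k σ x) := rfl

theorem permQuot_mul (σ τ : Equiv.Perm (Fin (4 * k + 4))) (u : EvenQuot k) :
    permQuot k (σ * τ) u = permQuot k σ (permQuot k τ u) := by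
  obtain ⟨x, rfl⟩ := Submodule.Quotient.mk_surjective _ u
  rfl

theorem permQuot_one (u : EvenQuot k) : permQuot k 1 u = u := by
  obtain ⟨x, rfl⟩ := Submodule.Quotient.mk_surjective _ u
  rfl

/-- The symmetric group in the isometry group of the quotient form. -/
def permIsom : Equiv.Perm (Fin (4 * k + 4)) →* Forms.isom (ZMod 2) (fun u _ => qbar k u : EvenQuot k → EvenQuot k → ZMod 2) :=
  MonoidHom.mk' (fun σ => ⟨LinearEquiv.ofLinear (permQuot k σ) (permQuot k σ⁻¹)
      (LinearMap.ext fun u => by
        show permQuot k σ (permQuot k σ⁻¹ u) = u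
        rw [← permQuot_mul, mul_inv_cancel, permQuot_one])
      (LinearMap.ext fun u => by
        show permQuot k σ⁻¹ (permQuot k σ u) = u
        rw [← permQuot_mul, inv_mul_cancel, permQuot_one]), fun u v => by
      obtain ⟨x, rfl⟩ := Submodule.Quotient.mk_surjective _ u
      show halfWeight k (fun i => (x : U) (σ.symm i)) = halfWeight k x
      unfold halfWeight weight
      congr 2
      refine Finset.card_equiv σ.symm (fun i => ?_)
      simp⟩)
    (fun σ τ => Subtype.ext (LinearEquiv.ext fun u => permQuot_mul k σ τ u))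

theorem permIsom_injective (hk : 1 ≤ k) : Function.Injective (permIsom k) := by
  rw [injective_iff_map_eq_one]
  intro σ hσ
  refine Equiv.ext fun i => ?_
  show σ i = i
  have key : ∀ j, j ≠ i → σ i = i ∨ σ i = j := by
    intro j hj
    have h : permQuot k σ (Submodule.Quotient.mk ⟨pairVec k i j, pairVec_mem k i j⟩) =
        Submodule.Quotient.mk ⟨pairVec k i j, pairVec_mem k i j⟩ :=
      DFunLike.congr_fun (congrArg Subtype.val hσ) _
    rw [permQuot_mk, Submodule.Quotient.eq, mem_constLine] at h
    rcases h with h | h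
    · have h' := congrFun h (σ i)
      simp [permKer, LinearMap.funLeft_apply, pairVec, hj.symm] at h'
      by_contra hc
      push Not at hc
      rw [Pi.single_eq_of_ne hc.1, Pi.single_eq_of_ne hc.2] at h'
      simp at h'
    · exfalso
      have hcard : (Finset.univ : Finset (Fin (4 * k + 4))) ⊆ {σ i, σ j, i, j} := by
        intro a _
        by_contra ha
        simp only [Finset.mem_insert, Finset.mem_singleton, not_or] at ha
        have h' := congrFun h a
        simp [permKer, LinearMap.funLeft_apply, pairVec] at h'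
        rw [Pi.single_eq_of_ne (fun e => ha.1 (by simp [← e])), Pi.single_eq_of_ne (fun e => ha.2.1 (by simp [← e])),
          Pi.single_eq_of_ne ha.2.2.1, Pi.single_eq_of_ne ha.2.2.2] at h'
        simp at h'
      have h1 := Finset.card_le_card hcard
      have h2 := Finset.card_le_four (a := σ i) (b := σ j) (c := i) (d := j)
      rw [Finset.card_univ, Fintype.card_fin] at h1
      omega
  obtain ⟨j₁, hj₁⟩ := exists_ne i
  obtain ⟨j₂, hj₂, hj₂'⟩ : ∃ j, j ≠ i ∧ j ≠ j₁ := by
    by_contra h
    push Not at h
    have hsub : (Finset.univ : Finset (Fin (4 * k + 4))) ⊆ {i, j₁} := fun a _ => by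
      rcases eq_or_ne a i with e | e
      · simp [e]
      · simp [h a e]
    have h1 := Finset.card_le_card hsub
    have h2 := Finset.card_le_two (a := i) (b := j₁)
    rw [Finset.card_univ, Fintype.card_fin] at h1
    omega
  rcases key j₁ hj₁ with h | h
  · exact h
  rcases key j₂ hj₂ with h' | h'
  · exact h'
  · exact absurd (h'.symm.trans h) hj₂'

end Cfsg.Agent.QFormF2
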